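import Mathlib.RingTheory.MvPolynomial.Homogeneous
import Mathlib.RingTheory.MvPolynomial.EulerIdentity
import Mathlib.RingTheory.MvPolynomial.IrreducibleQuadratic
import Mathlib.RingTheory.Polynomial.UniqueFactorization
import Mathlib.Algebra.Polynomial.FieldDivision
import Mathlib.Algebra.MvPolynomial.Funext
import Mathlib.Algebra.MvPolynomial.PDeriv
import Mathlib.Algebra.Squarefree.Basic
import Mathlib.LinearAlgebra.CrossProduct
import Mathlib.LinearAlgebra.Matrix.NonsingularInverse
import Mathlib.FieldTheory.IsAlgClosed.Basic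

/-!
Singular points of plane curves: restriction to parametrised curves, divisibility by a line,
linear changes of coordinates.
-/

set_option autoImplicit false

open MvPolynomial

namespace QuarticSingLib

variable {k : Type*} [Field k]

/-- `p` is a singular point of the zero locus of `f`. -/
def Sing (f : MvPolynomial (Fin 3) k) (p : Fin 3 → k) : Prop :=
  eval p f = 0 ∧ ∀ i, eval p (pderiv i f) = 0

lemma eval_smul_homog {σ : Type*} {d : ℕ} {f : MvPolynomial σ k} (hf : f.IsHomogeneous d)
    (c : k) (x : σ → k) : eval (c • x) f = c ^ d * eval x f := by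
  rw [eval_eq, eval_eq, Finset.mul_sum]
  refine Finset.sum_congr rfl fun m hm => ?_
  have hd : m.degree = d := by
    rw [Finsupp.degree_eq_weight_one]
    exact hf (mem_support_iff.mp hm)
  have : ∏ i ∈ m.support, (c • x) i ^ m i = c ^ d * ∏ i ∈ m.support, x i ^ m i := by
    simp only [Pi.smul_apply, smul_eq_mul, mul_pow, Finset.prod_mul_distrib,
      Finset.prod_pow_eq_pow_sum]
    rw [← hd]; rfl
  rw [this]; ring

lemma Sing.smul {d : ℕ} {f : MvPolynomial (Fin 3) k} (hf : f.IsHomogeneous d) {p : Fin 3 → k}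
    (h : Sing f p) (c : k) : Sing f (c • p) := by
  refine ⟨?_, fun i => ?_⟩
  · rw [eval_smul_homog hf, h.1, mul_zero]
  · rw [eval_smul_homog hf.pderiv, h.2 i, mul_zero]

/-- Chain rule, univariate. -/
lemma derivative_aeval {σ : Type*} [Fintype σ] (g : σ → Polynomial k) (f : MvPolynomial σ k) :
    Polynomial.derivative (aeval g f) =
      ∑ i, aeval g (pderiv i f) * Polynomial.derivative (g i) := by
  classical
  induction f using MvPolynomial.induction_on with
  | C a => simp
  | add p q hp hq => simp [map_add, hp, hq, add_mul, Finset.sum_add_distrib]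
  | mul_X p j hp =>
    have hterm : ∀ i, aeval g (pderiv i (p * X j)) * Polynomial.derivative (g i) =
        aeval g (pderiv i p) * Polynomial.derivative (g i) * g j +
          if i = j then aeval g p * Polynomial.derivative (g j) else 0 := by
      intro i
      rw [pderiv_mul, map_add, map_mul, map_mul, aeval_X]
      by_cases h : i = j
      · subst h
        rw [pderiv_X_self, map_one, if_pos rfl]; ring
      · rw [pderiv_X_of_ne (Ne.symm h), map_zero, if_neg h]; ring
    rw [map_mul, aeval_X, Polynomial.derivative_mul, hp, Finset.sum_congr rfl fun i _ => hterm i,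
      Finset.sum_add_distrib, Finset.sum_mul]
    simp

/-- Chain rule, multivariate. -/
lemma pderiv_aeval {σ τ : Type*} [Fintype σ] (g : σ → MvPolynomial τ k) (j : τ)
    (f : MvPolynomial σ k) :
    pderiv j (aeval g f) = ∑ i, aeval g (pderiv i f) * pderiv j (g i) := by
  classical
  induction f using MvPolynomial.induction_on with
  | C a => simp
  | add p q hp hq => simp [map_add, hp, hq, add_mul, Finset.sum_add_distrib]
  | mul_X p l hp =>
    have hterm : ∀ i, aeval g (pderiv i (p * X l)) * pderiv j (g i) =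
        aeval g (pderiv i p) * pderiv j (g i) * g l +
          if i = l then aeval g p * pderiv j (g l) else 0 := by
      intro i
      rw [pderiv_mul, map_add, map_mul, map_mul, aeval_X]
      by_cases h : i = l
      · subst h
        rw [pderiv_X_self, map_one, if_pos rfl]; ring
      · rw [pderiv_X_of_ne (Ne.symm h), map_zero, if_neg h]; ring
    rw [map_mul, aeval_X, pderiv_mul, hp, Finset.sum_congr rfl fun i _ => hterm i,
      Finset.sum_add_distrib, Finset.sum_mul]
    simp

lemma natDegree_aeval_le {σ : Type*} {d e : ℕ} {f : MvPolynomial σ k} (hf : f.IsHomogeneous d)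
    (g : σ → Polynomial k) (hg : ∀ i, (g i).natDegree ≤ e) :
    (aeval g f).natDegree ≤ d * e := by
  rw [aeval_def, eval₂_eq]
  refine Polynomial.natDegree_sum_le_of_forall_le _ _ fun m hm => ?_
  refine (Polynomial.natDegree_C_mul_le _ _).trans ?_
  refine (Polynomial.natDegree_prod_le _ _).trans ?_
  refine (Finset.sum_le_sum (g := fun i => m i * e) fun i _ =>
    Polynomial.natDegree_pow_le.trans (Nat.mul_le_mul_left _ (hg i))).trans ?_
  have hd : m.degree = d := by
    rw [Finsupp.degree_eq_weight_one]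
    exact hf (mem_support_iff.mp hm)
  rw [← Finset.sum_mul, ← hd]
  exact le_rfl

lemma eval_aeval_poly {σ : Type*} (g : σ → Polynomial k) (f : MvPolynomial σ k) (t : k) :
    (aeval g f).eval t = eval (fun i => (g i).eval t) f := by
  induction f using MvPolynomial.induction_on with
  | C a => simp
  | add p q hp hq => simp [hp, hq]
  | mul_X p j hp => simp [hp]

lemma eval_aeval_mv {σ τ : Type*} (g : σ → MvPolynomial τ k) (f : MvPolynomial σ k) (y : τ → k) :
    eval y (aeval g f) = eval (fun i => eval y (g i)) f := by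
  induction f using MvPolynomial.induction_on with
  | C a => simp
  | add p q hp hq => simp [hp, hq]
  | mul_X p j hp => simp [hp]

/-- A homogeneous form vanishing at enough points of a parametrised curve vanishes on it. -/
lemma vanish_param [Infinite k] {d e : ℕ} {h : MvPolynomial (Fin 3) k} (hh : h.IsHomogeneous d)
    (φ : k → k → Fin 3 → k) (g : k → Fin 3 → Polynomial k)
    (hdeg : ∀ μ i, (g μ i).natDegree ≤ e)
    (hg : ∀ μ t i, (g μ i).eval t = φ (1 - μ * t) t i)
    (hφ : ∀ c x y, φ (c * x) (c * y) = c ^ e • φ x y)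
    (T : Finset (k × k)) (hT : ∀ a ∈ T, ∀ b ∈ T, a ≠ b → a.1 * b.2 ≠ a.2 * b.1)
    (hT0 : ∀ a ∈ T, a ≠ 0)
    (hz : ((∀ a ∈ T, eval (φ a.1 a.2) h = 0) ∧ d * e < T.card) ∨
      ((∀ a ∈ T, Sing h (φ a.1 a.2)) ∧ d * e < 2 * T.card)) :
    ∀ x y, (x, y) ≠ (0 : k × k) → eval (φ x y) h = 0 := by
  classical
  intro x y hxy
  let S : Finset (k × k) := insert (x, y) T
  have hS0 : ∀ a ∈ S, a ≠ 0 := by
    intro a ha
    rcases Finset.mem_insert.mp ha with rfl | ha
    · exact hxy
    · exact hT0 a ha
  obtain ⟨μ, hμ⟩ := Infinite.exists_notMem_finset (S.image fun a => -a.1 / a.2)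
  have hne : ∀ a ∈ S, a.1 + μ * a.2 ≠ 0 := by
    intro a ha h0
    by_cases h2 : a.2 = 0
    · refine hS0 a ha (Prod.ext ?_ h2)
      simpa [h2] using h0
    · refine hμ (Finset.mem_image.mpr ⟨a, ha, ?_⟩)
      field_simp
      linear_combination -h0
  have key : ∀ a ∈ S, φ a.1 a.2 =
      (a.1 + μ * a.2) ^ e • fun i => (g μ i).eval (a.2 / (a.1 + μ * a.2)) := by
    intro a ha
    have hn := hne a ha
    have e2 : (fun i => (g μ i).eval (a.2 / (a.1 + μ * a.2))) =
        φ (1 - μ * (a.2 / (a.1 + μ * a.2))) (a.2 / (a.1 + μ * a.2)) := funext (hg μ _)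
    rw [e2, ← hφ]
    congr 1
    · rw [mul_sub, mul_one, mul_left_comm, mul_div_cancel₀ _ hn]; ring
    · rw [mul_div_cancel₀ _ hn]
  let R := aeval (g μ) h
  let τ : k × k → k := fun a => a.2 / (a.1 + μ * a.2)
  have hτ : Set.InjOn τ T := by
    intro a ha b hb hab
    by_contra hne'
    refine hT a ha b hb hne' ?_
    have na := hne a (Finset.mem_insert_of_mem ha)
    have nb := hne b (Finset.mem_insert_of_mem hb)
    simp only [τ] at hab
    rw [div_eq_div_iff na nb] at hab
    linear_combination -hab
  have hev : ∀ (a : k × k), a ∈ S → ∀ {n : ℕ} {q : MvPolynomial (Fin 3) k}, q.IsHomogeneous n →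
      eval (φ a.1 a.2) q = 0 → (aeval (g μ) q).eval (τ a) = 0 := by
    intro a ha n q hq h0
    rw [key a ha, eval_smul_homog hq] at h0
    rw [eval_aeval_poly]
    exact (mul_eq_zero.mp h0).resolve_left (pow_ne_zero _ (pow_ne_zero _ (hne a ha)))
  have hR : R = 0 := by
    by_contra hR
    have hdR : R.natDegree ≤ d * e := natDegree_aeval_le hh _ (hdeg μ)
    rcases hz with ⟨hz, hlt⟩ | ⟨hz, hlt⟩
    · have hsub : T.image τ ⊆ R.roots.toFinset := by
        intro t ht
        obtain ⟨a, ha, rfl⟩ := Finset.mem_image.mp ht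
        rw [Multiset.mem_toFinset, Polynomial.mem_roots hR]
        exact hev a (Finset.mem_insert_of_mem ha) hh (hz a ha)
      have := (Finset.card_le_card hsub).trans ((Multiset.toFinset_card_le _).trans
        (Polynomial.card_roots' R))
      rw [Finset.card_image_of_injOn hτ] at this
      omega
    · have hsub : (T.image τ).val + (T.image τ).val ≤ R.roots := by
        rw [Multiset.le_iff_count]
        intro t
        rw [Multiset.count_add, Polynomial.count_roots]
        by_cases ht : t ∈ T.image τ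
        · rw [Multiset.count_eq_one_of_mem (T.image τ).nodup ht]
          obtain ⟨a, ha, rfl⟩ := Finset.mem_image.mp ht
          have haS := Finset.mem_insert_of_mem (b := (x, y)) ha
          refine (Polynomial.one_lt_rootMultiplicity_iff_isRoot hR).mpr
            ⟨hev a haS hh (hz a ha).1, ?_⟩
          show (Polynomial.derivative (aeval (g μ) h)).eval (τ a) = 0
          rw [derivative_aeval, Polynomial.eval_finsetSum]
          refine Finset.sum_eq_zero fun i _ => ?_
          rw [Polynomial.eval_mul, hev a haS hh.pderiv ((hz a ha).2 i), zero_mul]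
        · rw [Multiset.count_eq_zero_of_notMem (s := (T.image τ).val) ht]
          simp
      have := (Multiset.card_le_card hsub).trans (Polynomial.card_roots' R)
      rw [Multiset.card_add, Finset.card_val, Finset.card_image_of_injOn hτ] at this
      omega
  have hxS : (x, y) ∈ S := Finset.mem_insert_self _ _
  have h3 := congrArg (Polynomial.eval (τ (x, y))) hR
  rw [eval_aeval_poly, Polynomial.eval_zero] at h3
  have h4 := key (x, y) hxS
  rw [h4, eval_smul_homog hh]
  simp only [τ] at h3
  rw [h3, mul_zero]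

/-- `p` and `q` are linearly independent. -/
def Indep (p q : Fin 3 → k) : Prop := ∀ a b : k, a • p + b • q = 0 → a = 0 ∧ b = 0

/-- A finite set of representatives of distinct points of the projective plane. -/
def Good (P : Finset (Fin 3 → k)) : Prop :=
  (∀ p ∈ P, p ≠ 0) ∧ ∀ p ∈ P, ∀ q ∈ P, p ≠ q → Indep p q

lemma Good.mono {P Q : Finset (Fin 3 → k)} (h : Good P) (hQ : Q ⊆ P) : Good Q :=
  ⟨fun p hp => h.1 p (hQ hp), fun p hp q hq => h.2 p (hQ hp) q (hQ hq)⟩

/-- A form vanishing (or singular) at enough points of a line vanishes on it. -/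
lemma vanish_line [Infinite k] {d : ℕ} {h : MvPolynomial (Fin 3) k} (hh : h.IsHomogeneous d)
    (u v : Fin 3 → k) (T : Finset (k × k))
    (hT : ∀ a ∈ T, ∀ b ∈ T, a ≠ b → a.1 * b.2 ≠ a.2 * b.1) (hT0 : ∀ a ∈ T, a ≠ 0)
    (hz : ((∀ a ∈ T, eval (a.1 • u + a.2 • v) h = 0) ∧ d < T.card) ∨
      ((∀ a ∈ T, Sing h (a.1 • u + a.2 • v)) ∧ d < 2 * T.card)) :
    ∀ x y, (x, y) ≠ (0 : k × k) → eval (x • u + y • v) h = 0 := by
  refine vanish_param (e := 1) hh (fun x y => x • u + y • v)
    (fun μ i => Polynomial.C (u i) * (1 - Polynomial.C μ * Polynomial.X) +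
      Polynomial.C (v i) * Polynomial.X) ?_ ?_ ?_ T hT hT0 (by simpa using hz)
  · intro μ i
    compute_degree
  · intro μ t i
    simp; ring
  · intro c x y
    funext i
    simp; ring

lemma X_two_dvd_sub (f : MvPolynomial (Fin 3) k) :
    X 2 ∣ f - aeval ![X 0, X 1, 0] f := by
  induction f using MvPolynomial.induction_on with
  | C a => simp
  | add p q hp hq =>
    rw [map_add]
    convert dvd_add hp hq using 1
    ring
  | mul_X p j hp =>
    rw [map_mul, aeval_X]
    fin_cases j
    · obtain ⟨c, hc⟩ := hp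
      exact ⟨c * X 0, by simp only [Fin.zero_eta, Matrix.cons_val_zero]; linear_combination X 0 * hc⟩
    · obtain ⟨c, hc⟩ := hp
      exact ⟨c * X 1, by simp only [Fin.mk_one, Matrix.cons_val_one, Matrix.cons_val_zero]; linear_combination X 1 * hc⟩
    · exact ⟨p, by simp; ring⟩

/-- A form vanishing (or singular) at enough points of the line `z = 0` is divisible by `z`. -/
lemma X_two_dvd_of_zeros [Infinite k] {d : ℕ} {h : MvPolynomial (Fin 3) k}
    (hh : h.IsHomogeneous d) (P : Finset (Fin 3 → k)) (hP : Good P) (hP2 : ∀ p ∈ P, p 2 = 0)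
    (hz : ((∀ p ∈ P, eval p h = 0) ∧ d < P.card) ∨
      ((∀ p ∈ P, Sing h p) ∧ d < 2 * P.card)) : X 2 ∣ h := by
  classical
  let π : (Fin 3 → k) → k × k := fun p => (p 0, p 1)
  have hrep : ∀ p ∈ P, (π p).1 • ![(1 : k), 0, 0] + (π p).2 • ![(0 : k), 1, 0] = p := by
    intro p hp
    funext i
    fin_cases i <;> simp [π, hP2 p hp]
  have hinj : Set.InjOn π P := by
    intro p hp q hq h'
    rw [← hrep p hp, ← hrep q hq, h']
  have hT : ∀ a ∈ P.image π, ∀ b ∈ P.image π, a ≠ b → a.1 * b.2 ≠ a.2 * b.1 := by
    simp only [Finset.mem_image, forall_exists_index, and_imp]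
    rintro _ p hp rfl _ q hq rfl hne h0
    have hpq : p ≠ q := fun e => hne (by rw [e])
    have hI := hP.2 p hp q hq hpq
    by_cases h1 : p 1 = 0
    · have h00 : p 0 ≠ 0 := fun e => hP.1 p hp (by funext i; fin_cases i <;> simp [e, h1, hP2 p hp])
      have := (hI (q 0) (-(p 0)) (by
        funext i; fin_cases i
        · simp; ring
        · simp [π, h1] at h0 ⊢
          simp [h0.resolve_left h00]
        · simp [hP2 p hp, hP2 q hq])).2
      exact h00 (neg_eq_zero.mp this)
    · have := (hI (q 1) (-(p 1)) (by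
        funext i; fin_cases i
        · simp [π] at h0 ⊢
          linear_combination h0
        · simp; ring
        · simp [hP2 p hp, hP2 q hq])).2
      exact h1 (neg_eq_zero.mp this)
  have hT0 : ∀ a ∈ P.image π, a ≠ 0 := by
    simp only [Finset.mem_image, forall_exists_index, and_imp]
    rintro _ p hp rfl h0
    refine hP.1 p hp ?_
    funext i
    have := Prod.ext_iff.mp h0
    fin_cases i <;> simp_all [π]
  have hv := vanish_line hh ![(1 : k), 0, 0] ![0, 1, 0] (P.image π) hT hT0 (by
    rw [Finset.card_image_of_injOn hinj]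
    rcases hz with ⟨hz, hlt⟩ | ⟨hz, hlt⟩
    · refine Or.inl ⟨?_, hlt⟩
      simp only [Finset.mem_image, forall_exists_index, and_imp]
      rintro _ p hp rfl
      rw [hrep p hp]; exact hz p hp
    · refine Or.inr ⟨?_, hlt⟩
      simp only [Finset.mem_image, forall_exists_index, and_imp]
      rintro _ p hp rfl
      rw [hrep p hp]; exact hz p hp)
  have h0 : (X 0 : MvPolynomial (Fin 3) k) * aeval ![X 0, X 1, 0] h = 0 := by
    refine MvPolynomial.funext fun y => ?_
    rw [map_mul, eval_X, eval_aeval_mv, map_zero]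
    by_cases hy : y 0 = 0
    · rw [hy, zero_mul]
    · have hzero := hv (y 0) (y 1) (by simp [hy])
      have e1 : (fun i => eval y ((![X 0, X 1, 0] : Fin 3 → MvPolynomial (Fin 3) k) i)) =
          y 0 • ![(1 : k), 0, 0] + y 1 • ![(0 : k), 1, 0] := by
        funext i; fin_cases i <;> simp
      rw [e1, hzero, mul_zero]
  have := X_two_dvd_sub h
  rwa [(mul_eq_zero.mp h0).resolve_left (X_ne_zero 0), sub_zero] at this

/-- Cofactors of homogeneous divisors of homogeneous forms. -/
lemma exists_homog_cofactor {σ : Type*} {a b : ℕ} {f Q : MvPolynomial σ k}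
    (hf : f.IsHomogeneous (a + b)) (hQ : Q.IsHomogeneous a) (hd : Q ∣ f) :
    ∃ q : MvPolynomial σ k, q.IsHomogeneous b ∧ f = Q * q := by
  obtain ⟨c, hc⟩ := hd
  refine ⟨homogeneousComponent b c, homogeneousComponent_isHomogeneous _ _, ?_⟩
  have h1 : f = ∑ i ∈ Finset.range (c.totalDegree + 1), Q * homogeneousComponent i c := by
    rw [← Finset.mul_sum, sum_homogeneousComponent, hc]
  conv_lhs => rw [← homogeneousComponent_eq_self hf, h1, map_sum]
  rw [Finset.sum_eq_single b]
  · exact homogeneousComponent_eq_self (hQ.mul (homogeneousComponent_isHomogeneous _ _))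
  · intro i _ hi
    rw [homogeneousComponent_of_mem (hQ.mul (homogeneousComponent_isHomogeneous i c))]
    simp; omega
  · intro hb
    rw [homogeneousComponent_eq_zero b c (by simpa using hb), mul_zero, map_zero]

/-- Linear substitution. -/
noncomputable def subst (M : Matrix (Fin 3) (Fin 3) k) :
    MvPolynomial (Fin 3) k →ₐ[k] MvPolynomial (Fin 3) k :=
  aeval fun i => ∑ j, C (M i j) * X j

lemma eval_subst (M : Matrix (Fin 3) (Fin 3) k) (f : MvPolynomial (Fin 3) k) (y : Fin 3 → k) :
    eval y (subst M f) = eval (M.mulVec y) f := by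
  rw [subst, eval_aeval_mv]
  have : (fun i => eval y (∑ j, C (M i j) * X j)) = M.mulVec y := by
    funext i; simp [Matrix.mulVec, dotProduct]
  rw [this]

lemma subst_subst_inv {M N : Matrix (Fin 3) (Fin 3) k} (h : N * M = 1)
    (f : MvPolynomial (Fin 3) k) : subst M (subst N f) = f := by
  have : (subst M).comp (subst N) = AlgHom.id k _ := by
    refine MvPolynomial.algHom_ext fun i => ?_
    have h2 : ∀ l, ∑ j, N i j * M j l = (1 : Matrix (Fin 3) (Fin 3) k) i l := fun l => by
      rw [← h, Matrix.mul_apply]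
    simp only [subst, AlgHom.comp_apply, aeval_X, map_sum, map_mul, aeval_C, algebraMap_eq,
      Finset.mul_sum, AlgHom.id_apply]
    rw [Finset.sum_comm]
    simp only [← mul_assoc, ← C_mul, ← Finset.sum_mul, ← map_sum, h2]
    simp [Matrix.one_apply, apply_ite, ite_mul]
  exact DFunLike.congr_fun this f

lemma Sing.subst {f : MvPolynomial (Fin 3) k} (M : Matrix (Fin 3) (Fin 3) k) {y : Fin 3 → k}
    (h : Sing f (M.mulVec y)) : Sing (subst M f) y := by
  refine ⟨by rw [eval_subst, h.1], fun j => ?_⟩
  show eval y (pderiv j (aeval _ f)) = 0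
  rw [pderiv_aeval, map_sum]
  refine Finset.sum_eq_zero fun i _ => ?_
  rw [map_mul]
  have := eval_subst M (pderiv i f) y
  rw [QuarticSingLib.subst] at this
  rw [this, h.2 i, zero_mul]

lemma isHomogeneous_subst {d : ℕ} {f : MvPolynomial (Fin 3) k} (hf : f.IsHomogeneous d)
    (M : Matrix (Fin 3) (Fin 3) k) : (subst M f).IsHomogeneous d := by
  have := hf.aeval (R := k) (fun i => ∑ j, C (M i j) * X j)
    (fun i => IsHomogeneous.sum Finset.univ _ 1 fun j _ => (isHomogeneous_X k j).C_mul _)
  rwa [one_mul] at this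

lemma squarefree_subst {f : MvPolynomial (Fin 3) k} (hf : Squarefree f)
    {M N : Matrix (Fin 3) (Fin 3) k} (h1 : N * M = 1) (h2 : M * N = 1) :
    Squarefree (subst M f) := by
  intro x hx
  have := map_dvd (subst N) hx
  rw [subst_subst_inv h2, map_mul] at this
  have hu := (hf _ this).map (subst M)
  rwa [subst_subst_inv h1] at hu

/-- A change of coordinates with prescribed inverse images of the coordinate points. -/
lemma exists_transport {d : ℕ} {f : MvPolynomial (Fin 3) k} (hf : f.IsHomogeneous d)
    (hsf : Squarefree f) (P : Finset (Fin 3 → k)) (hP : Good P) (hS : ∀ p ∈ P, Sing f p)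
    (p q r : Fin 3 → k) (hdet : Matrix.det ![p, q, r] ≠ 0) :
    ∃ (f' : MvPolynomial (Fin 3) k) (L : (Fin 3 → k) →ₗ[k] (Fin 3 → k)),
      Function.Injective L ∧ f'.IsHomogeneous d ∧ Squarefree f' ∧
      (∀ x ∈ P, Sing f' (L x)) ∧
      L p = ![1, 0, 0] ∧ L q = ![0, 1, 0] ∧ L r = ![0, 0, 1] := by
  let M : Matrix (Fin 3) (Fin 3) k := (Matrix.of ![p, q, r]).transpose
  have hM : IsUnit M.det := by
    rw [Matrix.det_transpose]; exact isUnit_iff_ne_zero.mpr hdet
  have h1 : M⁻¹ * M = 1 := Matrix.nonsing_inv_mul M hM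
  have h2 : M * M⁻¹ = 1 := Matrix.mul_nonsing_inv M hM
  have hback : ∀ x, M.mulVec (M⁻¹.mulVec x) = x := fun x => by
    rw [Matrix.mulVec_mulVec, h2, Matrix.one_mulVec]
  have hfw : ∀ x, M⁻¹.mulVec (M.mulVec x) = x := fun x => by
    rw [Matrix.mulVec_mulVec, h1, Matrix.one_mulVec]
  refine ⟨subst M f, M⁻¹.mulVecLin, ?_, isHomogeneous_subst hf M,
    squarefree_subst hsf h1 h2, ?_, ?_, ?_, ?_⟩
  · intro x y hxy
    simp only [Matrix.mulVecLin_apply] at hxy
    rw [← hback x, hxy, hback y]
  · intro x hx
    refine Sing.subst M ?_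
    rw [Matrix.mulVecLin_apply, hback]
    exact hS x hx
  · rw [Matrix.mulVecLin_apply, ← hfw ![1, 0, 0]]
    congr 1
    ext i
    simp [M, Matrix.mulVec, dotProduct, Fin.sum_univ_three]
  · rw [Matrix.mulVecLin_apply, ← hfw ![0, 1, 0]]
    congr 1
    ext i
    simp [M, Matrix.mulVec, dotProduct, Fin.sum_univ_three]
  · rw [Matrix.mulVecLin_apply, ← hfw ![0, 0, 1]]
    congr 1
    ext i
    simp [M, Matrix.mulVec, dotProduct, Fin.sum_univ_three]

lemma Good.image [DecidableEq k] {P : Finset (Fin 3 → k)} (hP : Good P)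
    {L : (Fin 3 → k) →ₗ[k] (Fin 3 → k)} (hL : Function.Injective L) : Good (P.image L) := by
  simp only [Good, Finset.mem_image, forall_exists_index, and_imp]
  refine ⟨?_, ?_⟩
  · rintro _ p hp rfl h0
    exact hP.1 p hp (hL (h0.trans (map_zero L).symm))
  · rintro _ p hp rfl _ q hq rfl hne a b h0
    refine hP.2 p hp q hq (fun e => hne (by rw [e])) a b (hL ?_)
    simpa using h0

/-- Two independent vectors complete to a basis. -/
lemma exists_det_ne_zero {p q : Fin 3 → k} (h : Indep p q) :
    ∃ w, Matrix.det ![p, q, w] ≠ 0 := by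
  have hne : crossProduct p q ≠ 0 := by
    rw [crossProduct_ne_zero_iff_linearIndependent, LinearIndependent.pair_iff]
    exact h
  obtain ⟨i, hi⟩ := Function.ne_iff.mp hne
  refine ⟨Pi.single i 1, fun h0 => hi ?_⟩
  have e : Matrix.det ![p, q, (Pi.single i 1 : Fin 3 → k)] =
      crossProduct p q ⬝ᵥ (Pi.single i 1 : Fin 3 → k) := by
    rw [dotProduct_comm, triple_product_eq_det]
    erw [Matrix.det_fin_three, Matrix.det_fin_three]
    dsimp only [Matrix.cons_val]
    ring
  rw [e, dotProduct_single, mul_one] at h0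
  simpa using h0

end QuarticSingLib
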