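import Groth.Agent.QuarticSingLib.Basic

/-!
A reduced cubic has at most three singular points; a reduced quartic with three collinear
singular points has at most six.
-/

set_option autoImplicit false

open MvPolynomial

namespace QuarticSingLib

variable {k : Type*} [Field k]

/-- The determinant of three vectors. -/
def det3 (p q r : Fin 3 → k) : k :=
  p 0 * (q 1 * r 2 - q 2 * r 1) - p 1 * (q 0 * r 2 - q 2 * r 0) + p 2 * (q 0 * r 1 - q 1 * r 0)

lemma det3_eq_det (p q r : Fin 3 → k) : det3 p q r = Matrix.det ![p, q, r] := by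
  erw [Matrix.det_fin_three]
  simp only [det3]
  dsimp only [Matrix.cons_val]
  ring

lemma coords {L : (Fin 3 → k) →ₗ[k] (Fin 3 → k)} (hL : Function.Injective L) {p q r : Fin 3 → k}
    (hp : L p = ![1, 0, 0]) (hq : L q = ![0, 1, 0]) (hr : L r = ![0, 0, 1]) (x : Fin 3 → k) :
    x = L x 0 • p + L x 1 • q + L x 2 • r := by
  apply hL
  rw [map_add, map_add, map_smul, map_smul, map_smul, hp, hq, hr]
  funext i
  fin_cases i <;> simp

lemma not_isUnit_X_two : ¬ IsUnit (X 2 : MvPolynomial (Fin 3) k) := by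
  intro h
  have := h.map (eval (0 : Fin 3 → k))
  simp at this

lemma sq_X_two_not_dvd {f : MvPolynomial (Fin 3) k} (hf : Squarefree f) :
    ¬ (X 2 * X 2 ∣ f) := fun h => not_isUnit_X_two (hf _ h)

lemma Sing.cofactor {A B : MvPolynomial (Fin 3) k} {p : Fin 3 → k} (h : Sing (A * B) p)
    (hA : eval p A ≠ 0) : Sing B p := by
  have h0 : eval p B = 0 := by
    have := h.1
    rw [map_mul] at this
    exact (mul_eq_zero.mp this).resolve_left hA
  refine ⟨h0, fun i => ?_⟩
  have := h.2 i
  rw [pderiv_mul, map_add, map_mul, map_mul, h0, mul_zero, zero_add] at this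
  exact (mul_eq_zero.mp this).resolve_left hA

lemma Sing.cofactor_zero {A B : MvPolynomial (Fin 3) k} {p : Fin 3 → k} (h : Sing (A * B) p)
    (hA : eval p A = 0) (i : Fin 3) (hi : eval p (pderiv i A) ≠ 0) : eval p B = 0 := by
  have := h.2 i
  rw [pderiv_mul, map_add, map_mul, map_mul, hA, zero_mul, add_zero] at this
  exact (mul_eq_zero.mp this).resolve_left hi

lemma Sing.cofactor_X_two {B : MvPolynomial (Fin 3) k} {p : Fin 3 → k} (h : Sing (X 2 * B) p) :
    eval p B = 0 := by
  by_cases h2 : p 2 = 0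
  · exact h.cofactor_zero (by simpa using h2) 2 (by simp [pderiv_X_self])
  · exact (h.cofactor (by simpa using h2)).1

variable [Infinite k]

/-- Three collinear points can be moved to the line `z = 0`. -/
lemma exists_line {d : ℕ} {f : MvPolynomial (Fin 3) k} (hf : f.IsHomogeneous d)
    (hsf : Squarefree f) (P : Finset (Fin 3 → k)) (hP : Good P) (hS : ∀ p ∈ P, Sing f p)
    {p q r : Fin 3 → k} (hp : p ∈ P) (hq : q ∈ P) (hr : r ∈ P) (hpq : p ≠ q) (hpr : p ≠ r)
    (hqr : q ≠ r) (hdet : det3 p q r = 0) :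
    ∃ (f' : MvPolynomial (Fin 3) k) (P' Q : Finset (Fin 3 → k)),
      f'.IsHomogeneous d ∧ Squarefree f' ∧ Good P' ∧ (∀ x ∈ P', Sing f' x) ∧ P'.card = P.card ∧
      Q ⊆ P' ∧ Q.card = 3 ∧ ∀ x ∈ Q, x 2 = 0 := by
  classical
  obtain ⟨w, hw⟩ := exists_det_ne_zero (hP.2 p hp q hq hpq)
  obtain ⟨f', L, hL, hf', hsf', hS', hLp, hLq, hLw⟩ := exists_transport hf hsf P hP hS p q w hw
  refine ⟨f', P.image L, ({p, q, r} : Finset _).image L, hf', hsf', hP.image hL, ?_,
    Finset.card_image_of_injective _ hL, ?_, ?_, ?_⟩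
  · simp only [Finset.mem_image, forall_exists_index, and_imp]
    rintro _ x hx rfl
    exact hS' x hx
  · refine Finset.image_subset_image ?_
    simp [Finset.insert_subset_iff, hp, hq, hr]
  · rw [Finset.card_image_of_injective _ hL, Finset.card_eq_three]
    exact ⟨p, q, r, hpq, hpr, hqr, rfl⟩
  · have hr2 : L r 2 = 0 := by
      have e := coords hL hLp hLq hLw r
      have : det3 p q r = L r 2 * det3 p q w := by
        conv_lhs => rw [e]
        simp [det3]
        ring
      rw [hdet] at this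
      refine (mul_eq_zero.mp this.symm).resolve_right ?_
      rw [det3_eq_det]; exact hw
    simp only [Finset.image_insert, Finset.image_singleton, Finset.mem_insert,
      Finset.mem_singleton]
    rintro x (rfl | rfl | rfl)
    · simp [hLp]
    · simp [hLq]
    · exact hr2

/-- A reduced plane cubic has at most three singular points. -/
theorem card_sing_cubic_le {g : MvPolynomial (Fin 3) k} (hg : g.IsHomogeneous 3)
    (hsg : Squarefree g) (P : Finset (Fin 3 → k)) (hP : Good P) (hS : ∀ p ∈ P, Sing g p) :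
    P.card ≤ 3 := by
  classical
  by_contra hcard
  obtain ⟨P₀, hsub, h4⟩ := Finset.exists_subset_card_eq (s := P) (n := 4) (by omega)
  replace hP := hP.mono hsub
  replace hS : ∀ p ∈ P₀, Sing g p := fun p hp => hS p (hsub hp)
  by_cases hcoll : ∃ p ∈ P₀, ∃ q ∈ P₀, ∃ r ∈ P₀, p ≠ q ∧ p ≠ r ∧ q ≠ r ∧ det3 p q r = 0
  · obtain ⟨p, hp, q, hq, r, hr, hpq, hpr, hqr, hdet⟩ := hcoll
    obtain ⟨g', P', Q, hg', hsg', hP', hS', -, hQ, hQ3, hQ2⟩ :=
      exists_line hg hsg P₀ hP hS hp hq hr hpq hpr hqr hdet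
    have hd : X 2 ∣ g' := X_two_dvd_of_zeros hg' Q (hP'.mono hQ) hQ2
      (Or.inr ⟨fun x hx => hS' x (hQ hx), by omega⟩)
    obtain ⟨b, hb, rfl⟩ := exists_homog_cofactor (a := 1) (b := 2) hg' (isHomogeneous_X k 2) hd
    have hd2 : X 2 ∣ b := X_two_dvd_of_zeros hb Q (hP'.mono hQ) hQ2
      (Or.inl ⟨fun x hx => (hS' x (hQ hx)).cofactor_X_two, by omega⟩)
    exact sq_X_two_not_dvd hsg' (mul_dvd_mul_left _ hd2)
  · push Not at hcoll
    obtain ⟨p, q, r, s, hpq, hpr, hps, hqr, hqs, hrs, rfl⟩ := Finset.card_eq_four.mp h4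
    have hdet : Matrix.det ![p, q, r] ≠ 0 := by
      rw [← det3_eq_det]
      exact hcoll p (by simp) q (by simp) r (by simp) hpq hpr hqr
    obtain ⟨g', L, hL, hg', hsg', hS', hLp, hLq, hLr⟩ := exists_transport hg hsg _ hP hS p q r hdet
    have e := coords hL hLp hLq hLr s
    set a := L s 0 with ha_def
    set b := L s 1 with hb_def
    set c := L s 2 with hc_def
    have hc : c ≠ 0 := fun h0 => hcoll p (by simp) q (by simp) s (by simp) hpq hps hqs (by
      rw [e, h0]; simp [det3]; ring)
    have hb : b ≠ 0 := fun h0 => hcoll p (by simp) r (by simp) s (by simp) hpr hps hrs (by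
      rw [e, h0]; simp [det3]; ring)
    have ha : a ≠ 0 := fun h0 => hcoll q (by simp) r (by simp) s (by simp) hqr hqs hrs (by
      rw [e, h0]; simp [det3]; ring)
    have S0 : Sing g' ![1, 0, 0] := hLp ▸ hS' p (by simp)
    have S1 : Sing g' ![0, 1, 0] := hLq ▸ hS' q (by simp)
    have S2 : Sing g' ![0, 0, 1] := hLr ▸ hS' r (by simp)
    have S3 : Sing g' (L s) := hS' s (by simp)
    have hi : ∀ x y : Fin 3 → k, x 0 * y 1 ≠ x 1 * y 0 → Indep x y := by
      intro x y hxy u v huv
      have h0 := congrFun huv 0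
      have h1 := congrFun huv 1
      simp only [Pi.add_apply, Pi.smul_apply, smul_eq_mul, Pi.zero_apply] at h0 h1
      have hne : x 0 * y 1 - x 1 * y 0 ≠ 0 := sub_ne_zero.mpr hxy
      constructor
      · refine (mul_eq_zero.mp (?_ : u * (x 0 * y 1 - x 1 * y 0) = 0)).resolve_right hne
        linear_combination y 1 * h0 - y 0 * h1
      · refine (mul_eq_zero.mp (?_ : v * (x 0 * y 1 - x 1 * y 0) = 0)).resolve_right hne
        linear_combination x 0 * h1 - x 1 * h0
    have hd : X 2 ∣ g' := by
      refine X_two_dvd_of_zeros hg' {![1, 0, 0], ![0, 1, 0]} ⟨?_, ?_⟩ ?_ (Or.inr ⟨?_, ?_⟩)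
      · simp only [Finset.mem_insert, Finset.mem_singleton]
        rintro x (rfl | rfl) h
        · simpa using congrFun h 0
        · simpa using congrFun h 1
      · simp only [Finset.mem_insert, Finset.mem_singleton]
        rintro x (rfl | rfl) y (rfl | rfl) hne <;>
          first | exact absurd rfl hne | exact hi _ _ (by simp)
      · simp
      · simp only [Finset.mem_insert, Finset.mem_singleton]
        rintro x (rfl | rfl)
        exacts [S0, S1]
      · rw [Finset.card_pair (by simp [_root_.funext_iff, Fin.forall_fin_succ])]; omega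
    obtain ⟨t, ht, rfl⟩ := exists_homog_cofactor (a := 1) (b := 2) hg' (isHomogeneous_X k 2) hd
    have T2 : Sing t ![0, 0, 1] := S2.cofactor (by simp)
    have T3 : Sing t (L s) := S3.cofactor (by simpa [hc_def] using hc)
    have hline := vanish_line ht ![0, 0, 1] (L s) {(1, 0), (0, 1)} (by simp) (by simp)
      (Or.inr ⟨by simp only [Finset.mem_insert, Finset.mem_singleton]; rintro x (rfl | rfl) <;> simpa, by rw [Finset.card_pair (by simp)]; omega⟩)
      (-c) 1 (by simp)
    have hI : (-c) • ![0, 0, 1] + (1 : k) • L s = ![a, b, 0] := by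
      funext i; fin_cases i <;> simp [ha_def, hb_def, hc_def]
    rw [hI] at hline
    have hd2 : X 2 ∣ t := by
      refine X_two_dvd_of_zeros ht {![1, 0, 0], ![0, 1, 0], ![a, b, 0]} ⟨?_, ?_⟩ ?_
        (Or.inl ⟨?_, ?_⟩)
      · simp only [Finset.mem_insert, Finset.mem_singleton]
        rintro x (rfl | rfl | rfl) h
        · simpa using congrFun h 0
        · simpa using congrFun h 1
        · exact ha (by simpa using congrFun h 0)
      · simp only [Finset.mem_insert, Finset.mem_singleton]
        rintro x (rfl | rfl | rfl) y (rfl | rfl | rfl) hne <;>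
          first | exact absurd rfl hne | exact hi _ _ (by simp [ha, hb, Ne.symm ha, Ne.symm hb])
      · simp
      · simp only [Finset.mem_insert, Finset.mem_singleton]
        rintro x (rfl | rfl | rfl)
        exacts [S0.cofactor_X_two, S1.cofactor_X_two, hline]
      · rw [Finset.card_eq_three.mpr ⟨![(1 : k), 0, 0], ![0, 1, 0], ![a, b, 0],
          by simp [_root_.funext_iff, Fin.forall_fin_succ],
          by simp [_root_.funext_iff, Fin.forall_fin_succ, hb, Ne.symm hb],
          by simp [_root_.funext_iff, Fin.forall_fin_succ, ha, Ne.symm ha], rfl⟩]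
        omega
    exact sq_X_two_not_dvd hsg' (mul_dvd_mul_left _ hd2)

/-- A reduced quartic with three collinear singular points has at most six singular points. -/
theorem card_sing_quartic_le_of_collinear {f : MvPolynomial (Fin 3) k} (hf : f.IsHomogeneous 4)
    (hsf : Squarefree f) (P : Finset (Fin 3 → k)) (hP : Good P) (hS : ∀ p ∈ P, Sing f p)
    {p q r : Fin 3 → k} (hp : p ∈ P) (hq : q ∈ P) (hr : r ∈ P) (hpq : p ≠ q) (hpr : p ≠ r)
    (hqr : q ≠ r) (hdet : det3 p q r = 0) : P.card ≤ 6 := by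
  classical
  obtain ⟨f', P', Q, hf', hsf', hP', hS', hcard, hQ, hQ3, hQ2⟩ :=
    exists_line hf hsf P hP hS hp hq hr hpq hpr hqr hdet
  have hd : X 2 ∣ f' := X_two_dvd_of_zeros hf' Q (hP'.mono hQ) hQ2
    (Or.inr ⟨fun x hx => hS' x (hQ hx), by omega⟩)
  obtain ⟨g, hg, rfl⟩ := exists_homog_cofactor (a := 1) (b := 3) hf' (isHomogeneous_X k 2) hd
  have hsg : Squarefree g := hsf'.squarefree_of_dvd (dvd_mul_left _ _)
  let A := P'.filter (fun x => x 2 = 0)
  let B := P'.filter (fun x => ¬ x 2 = 0)
  have hA : A.card ≤ 3 := by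
    by_contra hA
    refine sq_X_two_not_dvd hsf' (mul_dvd_mul_left _ (X_two_dvd_of_zeros hg A
      (hP'.mono (Finset.filter_subset _ _)) (fun x hx => (Finset.mem_filter.mp hx).2)
      (Or.inl ⟨fun x hx => (hS' x (Finset.mem_filter.mp hx).1).cofactor_X_two, by omega⟩)))
  have hB : B.card ≤ 3 := card_sing_cubic_le hg hsg B (hP'.mono (Finset.filter_subset _ _))
    fun x hx => (hS' x (Finset.mem_filter.mp hx).1).cofactor
      (by simpa using (Finset.mem_filter.mp hx).2)
  have hsum : A.card + B.card = P'.card :=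
    Finset.card_filter_add_card_filter_not _
  omega

end QuarticSingLib
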