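import Groth.Agent.QuarticSingLib.Cubic
import Mathlib.LinearAlgebra.Projectivization.Basic

/-!
A reduced plane quartic has at most six singular points.
-/

set_option autoImplicit false

open MvPolynomial

namespace QuarticSingLib

variable {k : Type*} [Field k]

/-- The conic `A yz + B zx + C xy`. -/
noncomputable def conic (A B C' : k) : MvPolynomial (Fin 3) k :=
  (C A * X 1 + C B * X 0) * X 2 + C C' * (X 0 * X 1)

/-- A parametrisation of the conic. -/
def param (A B C' : k) (x y : k) : Fin 3 → k :=
  ![x * (A * y + B * x), y * (A * y + B * x), -(C' * x * y)]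

lemma isHomogeneous_conic (A B C' : k) : (conic A B C').IsHomogeneous 2 :=
  ((((isHomogeneous_X k 1).C_mul A).add ((isHomogeneous_X k 0).C_mul B)).mul
    (isHomogeneous_X k 2)).add (((isHomogeneous_X k 0).mul (isHomogeneous_X k 1)).C_mul C')

lemma prime_conic {A B C' : k} (hA : A ≠ 0) (hB : B ≠ 0) (hC : C' ≠ 0) :
    Prime (conic A B C') := by
  refine UniqueFactorizationMonoid.irreducible_iff_prime.mp
    (irreducible_mul_X_add _ _ 2 ?_ ?_ ?_ ?_)
  · intro h
    have := congrArg (eval (![1, 0, 0] : Fin 3 → k)) h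
    simp [hB] at this
  · intro h
    rcases Finset.mem_union.mp (vars_add_subset _ _ h) with h | h <;>
      · have := vars_mul _ _ h
        simp [vars_X] at this
  · intro h
    have h' := vars_mul _ _ h
    simp only [vars_C, Finset.empty_union] at h'
    have := vars_mul _ _ h'
    simp [vars_X] at this
  · have hu : IsUnit (C C' : MvPolynomial (Fin 3) k) := (isUnit_iff_ne_zero.mpr hC).map C
    have h0 : ¬ (X 0 : MvPolynomial (Fin 3) k) ∣ C A * X 1 + C B * X 0 := by
      intro h
      have := map_dvd (eval (![0, 1, 0] : Fin 3 → k)) h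
      simp [hA] at this
    have h1 : ¬ (X 1 : MvPolynomial (Fin 3) k) ∣ C A * X 1 + C B * X 0 := by
      intro h
      have := map_dvd (eval (![1, 0, 0] : Fin 3 → k)) h
      simp [hB] at this
    rw [isRelPrime_mul_unit_left_right hu]
    refine IsRelPrime.mul_right ?_ ?_
    · exact ((X_prime (i := 0)).irreducible.isRelPrime_iff_not_dvd.mpr h0).symm
    · exact ((X_prime (i := 1)).irreducible.isRelPrime_iff_not_dvd.mpr h1).symm

lemma dvd_aeval_sub {σ τ : Type*} {Q : MvPolynomial τ k} (G H : σ → MvPolynomial τ k)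
    (hGH : ∀ i, Q ∣ G i - H i) (f : MvPolynomial σ k) : Q ∣ aeval G f - aeval H f := by
  induction f using MvPolynomial.induction_on with
  | C a => simp
  | add p q hp hq =>
    rw [map_add, map_add]
    convert dvd_add hp hq using 1
    ring
  | mul_X p j hp =>
    rw [map_mul, map_mul, aeval_X, aeval_X]
    obtain ⟨c, hc⟩ := hp
    obtain ⟨e, he⟩ := hGH j
    exact ⟨c * G j + aeval H p * e, by linear_combination G j * hc + aeval H p * he⟩

variable [Infinite k]

/-- A form vanishing on the parametrised conic is divisible by the conic. -/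
lemma conic_dvd {A B C' : k} (hA : A ≠ 0) (hB : B ≠ 0) (hC : C' ≠ 0) {d : ℕ}
    {h : MvPolynomial (Fin 3) k} (hh : h.IsHomogeneous d)
    (hv : ∀ x y, (x, y) ≠ (0 : k × k) → eval (param A B C' x y) h = 0) :
    conic A B C' ∣ h := by
  let Lf : MvPolynomial (Fin 3) k := C A * X 1 + C B * X 0
  let H : Fin 3 → MvPolynomial (Fin 3) k := ![Lf * X 0, Lf * X 1, -(C C' * (X 0 * X 1))]
  have hH : aeval H h = 0 := by
    have h0 : (X 0 : MvPolynomial (Fin 3) k) * aeval H h = 0 := by
      refine MvPolynomial.funext fun y => ?_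
      rw [map_mul, eval_X, eval_aeval_mv, map_zero]
      by_cases hy : y 0 = 0
      · rw [hy, zero_mul]
      · have e1 : (fun i => eval y (H i)) = param A B C' (y 0) (y 1) := by
          funext i; fin_cases i <;> simp [H, Lf, param] <;> ring
        rw [e1, hv (y 0) (y 1) (by simp [hy]), mul_zero]
    exact (mul_eq_zero.mp h0).resolve_left (X_ne_zero 0)
  have hG : aeval (fun i => Lf * X i) h = Lf ^ d * h := by
    refine MvPolynomial.funext fun y => ?_
    rw [eval_aeval_mv, map_mul, map_pow, ← eval_smul_homog hh]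
    congr 2
    funext i
    simp
  have hsub := dvd_aeval_sub (Q := conic A B C') (fun i => Lf * X i) H (fun i => by
    fin_cases i
    · simp [H]
    · simp [H]
    · exact ⟨1, by simp [H, Lf, conic]⟩) h
  rw [hH, hG, sub_zero] at hsub
  have hP := prime_conic hA hB hC
  refine (hP.dvd_or_dvd hsub).resolve_left fun hd => ?_
  obtain ⟨c, hc⟩ := hP.dvd_of_dvd_pow hd
  -- a point of the conic where the linear form does not vanish
  have := congrArg (eval (param A B C' 1 (((1 : k) - B) / A))) hc
  simp [Lf, conic, param] at this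
  field_simp at this
  ring_nf at this
  simp [hA] at this

/-- Five singular points of a reduced quartic contain three collinear ones. -/
theorem exists_collinear {f : MvPolynomial (Fin 3) k} (hf : f.IsHomogeneous 4)
    (hsf : Squarefree f) (P : Finset (Fin 3 → k)) (hP : Good P) (hS : ∀ p ∈ P, Sing f p)
    (hcard : 4 < P.card) :
    ∃ p ∈ P, ∃ q ∈ P, ∃ r ∈ P, p ≠ q ∧ p ≠ r ∧ q ≠ r ∧ det3 p q r = 0 := by
  classical
  by_contra hno
  push Not at hno
  obtain ⟨P₀, hsub, h5⟩ := Finset.exists_subset_card_eq (s := P) (n := 5) (by omega)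
  let w : Fin 5 → Fin 3 → k := fun i => (P₀.equivFinOfCardEq h5).symm i
  have hw : ∀ i, w i ∈ P := fun i => hsub ((P₀.equivFinOfCardEq h5).symm i).2
  have hwinj : Function.Injective w := Subtype.val_injective.comp (Equiv.injective _)
  have hnc : ∀ i j l : Fin 5, i ≠ j → i ≠ l → j ≠ l → det3 (w i) (w j) (w l) ≠ 0 :=
    fun i j l h1 h2 h3 => hno _ (hw i) _ (hw j) _ (hw l) (hwinj.ne h1) (hwinj.ne h2) (hwinj.ne h3)
  have hdet : Matrix.det ![w 0, w 1, w 2] ≠ 0 := by
    rw [← det3_eq_det]; exact hnc 0 1 2 (by decide) (by decide) (by decide)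
  obtain ⟨-, L₀, hL₀, -, -, -, hL₀0, hL₀1, hL₀2⟩ := exists_transport hf hsf P hP hS _ _ _ hdet
  have e3 := coords hL₀ hL₀0 hL₀1 hL₀2 (w 3)
  set d₀ := L₀ (w 3) 0
  set d₁ := L₀ (w 3) 1
  set d₂ := L₀ (w 3) 2
  have hd₀ : d₀ ≠ 0 := fun h0 => hnc 1 2 3 (by decide) (by decide) (by decide) (by
    rw [e3, h0]; simp [det3]; ring)
  have hd₁ : d₁ ≠ 0 := fun h0 => hnc 0 2 3 (by decide) (by decide) (by decide) (by
    rw [e3, h0]; simp [det3]; ring)
  have hd₂ : d₂ ≠ 0 := fun h0 => hnc 0 1 3 (by decide) (by decide) (by decide) (by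
    rw [e3, h0]; simp [det3]; ring)
  have hdet' : Matrix.det ![d₀ • w 0, d₁ • w 1, d₂ • w 2] ≠ 0 := by
    rw [← det3_eq_det]
    rw [← det3_eq_det] at hdet
    have : det3 (d₀ • w 0) (d₁ • w 1) (d₂ • w 2) = d₀ * d₁ * d₂ * det3 (w 0) (w 1) (w 2) := by
      simp [det3]; ring
    rw [this]
    exact mul_ne_zero (mul_ne_zero (mul_ne_zero hd₀ hd₁) hd₂) hdet
  obtain ⟨f', L, hL, hf', hsf', hS', hL0, hL1, hL2⟩ := exists_transport hf hsf P hP hS _ _ _ hdet'
  have S : ∀ i (c : k), Sing f' (L (c • w i)) := fun i c => by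
    rw [map_smul]; exact (hS' _ (hw i)).smul hf' c
  have S0 : Sing f' ![1, 0, 0] := hL0 ▸ S 0 d₀
  have S1 : Sing f' ![0, 1, 0] := hL1 ▸ S 1 d₁
  have S2 : Sing f' ![0, 0, 1] := hL2 ▸ S 2 d₂
  have S3 : Sing f' ![1, 1, 1] := by
    have := S 3 1
    rw [one_smul, e3, map_add, map_add, hL0, hL1, hL2] at this
    simpa using this
  have e4 := coords hL hL0 hL1 hL2 (w 4)
  have S4 : Sing f' (L (w 4)) := by simpa using S 4 1
  obtain ⟨a, b, c, hw4⟩ : ∃ a b c, L (w 4) = ![a, b, c] :=
    ⟨_, _, _, funext fun i => by fin_cases i <;> rfl⟩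
  rw [hw4] at e4 S4
  simp only [Matrix.cons_val_zero, Matrix.cons_val_one, Matrix.cons_val] at e4
  have ha : a ≠ 0 := fun h0 => hnc 1 2 4 (by decide) (by decide) (by decide) (by
    rw [e4, h0]; simp [det3]; ring)
  have hb : b ≠ 0 := fun h0 => hnc 0 2 4 (by decide) (by decide) (by decide) (by
    rw [e4, h0]; simp [det3]; ring)
  have hc : c ≠ 0 := fun h0 => hnc 0 1 4 (by decide) (by decide) (by decide) (by
    rw [e4, h0]; simp [det3]; ring)
  have hcb : c - b ≠ 0 := fun h0 => hnc 0 3 4 (by decide) (by decide) (by decide) (by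
    rw [e4, e3, sub_eq_zero.mp h0]; simp [det3]; ring)
  have hac : a - c ≠ 0 := fun h0 => hnc 1 3 4 (by decide) (by decide) (by decide) (by
    rw [e4, e3, sub_eq_zero.mp h0]; simp [det3]; ring)
  have hba : b - a ≠ 0 := fun h0 => hnc 2 3 4 (by decide) (by decide) (by decide) (by
    rw [e4, e3, sub_eq_zero.mp h0]; simp [det3]; ring)
  obtain ⟨A, hA'⟩ : ∃ A, A = a * (c - b) := ⟨_, rfl⟩
  obtain ⟨B, hB'⟩ : ∃ B, B = b * (a - c) := ⟨_, rfl⟩
  obtain ⟨C', hC'⟩ : ∃ C', C' = c * (b - a) := ⟨_, rfl⟩
  have hA : A ≠ 0 := hA' ▸ mul_ne_zero ha hcb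
  have hB : B ≠ 0 := hB' ▸ mul_ne_zero hb hac
  have hC : C' ≠ 0 := hC' ▸ mul_ne_zero hc hba
  have hAB : A + B = -C' := by rw [hA', hB', hC']; ring
  have hAb : A * b + B * a = -(a * b * (b - a)) := by rw [hA', hB']; ring
  let pt : Fin 5 → k × k := ![(1, 0), (0, 1), (A, -B), (1, 1), (a, b)]
  let sc : Fin 5 → k := ![B, A, A * B * C', A + B, A * b + B * a]
  let std : Fin 5 → Fin 3 → k := ![![1, 0, 0], ![0, 1, 0], ![0, 0, 1], ![1, 1, 1], ![a, b, c]]
  have hstd : ∀ i, Sing f' (std i) := by
    intro i
    fin_cases i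
    exacts [S0, S1, S2, S3, S4]
  have hparam : ∀ i, param A B C' (pt i).1 (pt i).2 = sc i • std i := by
    intro i
    funext j
    fin_cases i <;> fin_cases j <;> simp [param, pt, sc, std, hA', hB', hC', -mul_eq_zero] <;> ring
  have hcross : ∀ i j, i ≠ j → (pt i).1 * (pt j).2 ≠ (pt i).2 * (pt j).1 := by
    intro i j hij h0
    rw [← sub_eq_zero] at h0
    have hAB0 : A + B ≠ 0 := by rw [hAB]; exact neg_ne_zero.mpr hC
    have hAb0 : A * b + B * a ≠ 0 := by
      rw [hAb]; exact neg_ne_zero.mpr (mul_ne_zero (mul_ne_zero ha hb) hba)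
    fin_cases i <;> fin_cases j <;> simp [pt] at hij h0 <;>
      first
      | exact ha h0 | exact hb h0 | exact hA h0 | exact hB h0
      | exact hba (by linear_combination h0) | exact hba (by linear_combination -h0)
      | exact hAB0 (by linear_combination h0) | exact hAB0 (by linear_combination -h0)
      | exact hAb0 (by linear_combination h0) | exact hAb0 (by linear_combination -h0)
  have hptinj : Function.Injective pt := fun i j hij => by
    by_contra hne
    exact hcross i j hne (by rw [hij]; ring)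
  let T : Finset (k × k) := Finset.univ.image pt
  have hT : ∀ x ∈ T, ∀ y ∈ T, x ≠ y → x.1 * y.2 ≠ x.2 * y.1 := by
    simp only [T, Finset.mem_image, Finset.mem_univ, true_and, forall_exists_index,
      forall_apply_eq_imp_iff]
    intro i j hne
    exact hcross i j fun e => hne (by rw [e])
  have hT0 : ∀ x ∈ T, x ≠ 0 := by
    simp only [T, Finset.mem_image, Finset.mem_univ, true_and, forall_exists_index,
      forall_apply_eq_imp_iff]
    intro i
    fin_cases i <;> simp [pt, hA, ha]
  have hTcard : T.card = 5 := by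
    rw [Finset.card_image_of_injective _ hptinj]; rfl
  let g : k → Fin 3 → Polynomial k := fun μ =>
    let x : Polynomial k := 1 - Polynomial.C μ * Polynomial.X
    let l : Polynomial k := Polynomial.C A * Polynomial.X + Polynomial.C B * x
    ![x * l, Polynomial.X * l, -(Polynomial.C C' * x * Polynomial.X)]
  have hdeg : ∀ μ i, (g μ i).natDegree ≤ 2 := by
    intro μ i
    fin_cases i <;> simp only [g, Matrix.cons_val_zero, Matrix.cons_val_one, Matrix.cons_val,
      Fin.zero_eta, Fin.mk_one, Fin.reduceFinMk] <;> compute_degree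
  have hg : ∀ μ t i, (g μ i).eval t = param A B C' (1 - μ * t) t i := by
    intro μ t i
    fin_cases i <;> simp [g, param]
  have hφ : ∀ s x y, param A B C' (s * x) (s * y) = s ^ 2 • param A B C' x y := by
    intro s x y
    funext i
    fin_cases i <;> simp [param] <;> ring
  have hQf : conic A B C' ∣ f' := conic_dvd hA hB hC hf'
    (vanish_param hf' _ g hdeg hg hφ T hT hT0 (Or.inr ⟨by
      simp only [T, Finset.mem_image, Finset.mem_univ, true_and, forall_exists_index,
        forall_apply_eq_imp_iff]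
      intro i
      rw [hparam]
      exact (hstd i).smul hf' _, by omega⟩))
  obtain ⟨Q', hQ', hfQ⟩ := exists_homog_cofactor (a := 2) (b := 2) hf' (isHomogeneous_conic A B C') hQf
  rw [hfQ] at hstd
  have hz : ∀ i, eval (std i) Q' = 0 := by
    intro i
    fin_cases i
    · exact (hstd 0).cofactor_zero (by simp [std, conic]) 1 (by
        simp [std, conic, pderiv_X, hC])
    · exact (hstd 1).cofactor_zero (by simp [std, conic]) 0 (by
        simp [std, conic, pderiv_X, hC])
    · exact (hstd 2).cofactor_zero (by simp [std, conic]) 0 (by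
        simp [std, conic, pderiv_X, hB])
    · exact (hstd 3).cofactor_zero (by simp [std, conic]; linear_combination hAB) 2 (by
        simp [std, conic, pderiv_X]; rw [hAB]; exact neg_ne_zero.mpr hC)
    · exact (hstd 4).cofactor_zero
        (by simp [std, conic, hA', hB', hC']; ring) 2 (by
        simp [std, conic, pderiv_X]
        rw [hAb]; exact neg_ne_zero.mpr (mul_ne_zero (mul_ne_zero ha hb) hba))
  have hQQ : conic A B C' ∣ Q' := conic_dvd hA hB hC hQ'
    (vanish_param hQ' _ g hdeg hg hφ T hT hT0 (Or.inl ⟨by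
      simp only [T, Finset.mem_image, Finset.mem_univ, true_and, forall_exists_index,
        forall_apply_eq_imp_iff]
      intro i
      rw [hparam, eval_smul_homog hQ', hz i, mul_zero], by omega⟩))
  exact (prime_conic hA hB hC).not_isUnit (hsf' _ (hfQ ▸ mul_dvd_mul_left _ hQQ))

/-- A reduced plane quartic has at most six singular points. -/
theorem card_sing_quartic_le {f : MvPolynomial (Fin 3) k} (hf : f.IsHomogeneous 4)
    (hsf : Squarefree f) (P : Finset (Fin 3 → k)) (hP : Good P) (hS : ∀ p ∈ P, Sing f p) :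
    P.card ≤ 6 := by
  by_contra hcard
  obtain ⟨p, hp, q, hq, r, hr, hpq, hpr, hqr, hdet⟩ :=
    exists_collinear hf hsf P hP hS (by omega)
  exact hcard (card_sing_quartic_le_of_collinear hf hsf P hP hS hp hq hr hpq hpr hqr hdet)

/-- The singular points of a reduced plane quartic form a finite set with at most six elements. -/
theorem exists_finset_sing {f : MvPolynomial (Fin 3) k} (hf : f.IsHomogeneous 4)
    (hsf : Squarefree f) :
    ∃ s : Finset (Projectivization k (Fin 3 → k)), s.card ≤ 6 ∧
      ∀ p : Projectivization k (Fin 3 → k), Sing f p.rep → p ∈ s := by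
  classical
  let S : Set (Projectivization k (Fin 3 → k)) := {p | Sing f p.rep}
  have hrep : Function.Injective (Projectivization.rep : Projectivization k (Fin 3 → k) → _) := by
    intro p q h
    rw [← p.mk_rep, ← q.mk_rep, Projectivization.mk_eq_mk_iff']
    exact ⟨1, by rw [one_smul, h]⟩
  have key : ∀ s : Finset (Projectivization k (Fin 3 → k)), ↑s ⊆ S → s.card ≤ 6 := by
    intro s hs
    rw [← Finset.card_image_of_injective s hrep]
    refine card_sing_quartic_le hf hsf _ ⟨?_, ?_⟩ ?_
    · simp only [Finset.mem_image, forall_exists_index, and_imp]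
      rintro _ p - rfl
      exact p.rep_nonzero
    · simp only [Finset.mem_image, forall_exists_index, and_imp]
      rintro _ p - rfl _ q - rfl hne a b h0
      have ha : a = 0 := by
        by_contra ha
        refine hne (congrArg _ ?_)
        rw [← p.mk_rep, ← q.mk_rep, Projectivization.mk_eq_mk_iff']
        exact ⟨-b / a, by
          rw [← smul_right_inj ha, smul_smul, mul_div_cancel₀ _ ha, neg_smul, eq_comm,
            ← add_eq_zero_iff_eq_neg]
          exact h0⟩
      refine ⟨ha, ?_⟩
      rw [ha, zero_smul, zero_add, smul_eq_zero] at h0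
      exact h0.resolve_right q.rep_nonzero
    · simp only [Finset.mem_image, forall_exists_index, and_imp]
      rintro _ p hp rfl
      exact hs hp
  have hfin : S.Finite := by
    by_contra hinf
    obtain ⟨s, hs, hs7⟩ := Set.Infinite.exists_subset_card_eq hinf 7
    have := key s hs
    omega
  exact ⟨hfin.toFinset, key _ (by simp), fun p hp => hfin.mem_toFinset.mpr hp⟩

end QuarticSingLib
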